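import Cfsg.Agent.Lib.Known.OrthLift.Transport
import Mathlib.LinearAlgebra.CliffordAlgebra.Contraction
import Mathlib.GroupTheory.Schreier

/-!
# A perfect central extension of `Ω` inside the Clifford algebra
-/

set_option autoImplicit false
set_option linter.unusedSectionVars false

namespace CfsgLib.Known.OrthSpin

open CfsgLib.Classical
open scoped commutatorElement

universe u v

section Generic

variable {X : Type u} {Y : Type v} [Group X] [Group Y] (f : X →* Y)

/-- The derived subgroup of a central extension of a perfect group is perfect. -/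
theorem perfect_commutator (hY : commutator Y = ⊤) (hf : Function.Surjective f)
    (hc : f.ker ≤ Subgroup.center X) : commutator (commutator X) = ⊤ := by
  have hmap : (commutator X).map f = ⊤ := by
    rw [commutator_def, Subgroup.map_commutator, Subgroup.map_top_of_surjective _ hf, ← commutator_def, hY]
  have h0 : ∀ a : X, ∃ d ∈ commutator X, d⁻¹ * a ∈ Subgroup.center X := fun a => by
    obtain ⟨d, hd, e⟩ := (hmap ▸ Subgroup.mem_top (f a) : f a ∈ (commutator X).map f)
    exact ⟨d, hd, hc (by simp [MonoidHom.mem_ker, e])⟩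
  have hgen : commutator X ≤ ⁅commutator X, commutator X⁆ := by
    conv_lhs => rw [commutator_def]
    refine Subgroup.commutator_le.2 fun a _ b _ => ?_
    obtain ⟨d, hd, hz⟩ := h0 a
    obtain ⟨d', hd', hz'⟩ := h0 b
    have : ⁅a, b⁆ = ⁅d, d'⁆ := by
      have ha' : a = d * (d⁻¹ * a) := by group
      have hb' : b = d' * (d'⁻¹ * b) := by group
      rw [ha', hb', commutatorElement_def, commutatorElement_def]
      set z := d⁻¹ * a
      set z' := d'⁻¹ * b
      calc d * z * (d' * z') * (d * z)⁻¹ * (d' * z')⁻¹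
          = d * (z * (d' * z')) * z⁻¹ * d⁻¹ * (z'⁻¹ * d'⁻¹) := by group
        _ = d * ((d' * z') * z) * z⁻¹ * d⁻¹ * (z'⁻¹ * d'⁻¹) := by
            rw [← Subgroup.mem_center_iff.1 hz (d' * z')]
        _ = d * d' * (z' * d⁻¹) * z'⁻¹ * d'⁻¹ := by group
        _ = d * d' * (d⁻¹ * z') * z'⁻¹ * d'⁻¹ := by rw [← Subgroup.mem_center_iff.1 hz' d⁻¹]
        _ = d * d' * d⁻¹ * d'⁻¹ := by group
    rw [this]
    exact Subgroup.commutator_mem_commutator hd hd'
  refine Subgroup.map_injective (f := (commutator X).subtype) Subtype.val_injective ?_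
  rw [commutator_def (G := ↥(commutator X)), Subgroup.map_commutator, ← MonoidHom.range_eq_map,
    Subgroup.range_subtype]
  exact le_antisymm (Subgroup.commutator_le.2 fun a ha b hb => by
    rw [commutatorElement_def]; exact mul_mem (mul_mem (mul_mem ha hb) (inv_mem ha)) (inv_mem hb)) hgen

/-- Schur's theorem for a central extension of a finite group. -/
theorem finite_commutator_of_central [Finite Y] (hc : f.ker ≤ Subgroup.center X) :
    Finite (commutator X) := by
  classical
  haveI : Finite (commutatorSet X) := by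
    refine Set.finite_coe_iff.2 (Set.Finite.subset (Set.finite_range
      fun y : f.range × f.range => ⁅y.1.2.choose, y.2.2.choose⁆) ?_)
    rintro _ ⟨a, b, rfl⟩
    refine ⟨(⟨f a, a, rfl⟩, ⟨f b, b, rfl⟩), ?_⟩
    have ha := (⟨f a, a, rfl⟩ : f.range).2.choose_spec
    have hb := (⟨f b, b, rfl⟩ : f.range).2.choose_spec
    set a' := (⟨f a, a, rfl⟩ : f.range).2.choose
    set b' := (⟨f b, b, rfl⟩ : f.range).2.choose
    have hz : a⁻¹ * a' ∈ Subgroup.center X := hc (by simp [MonoidHom.mem_ker, show f a' = f a from ha])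
    have hz' : b⁻¹ * b' ∈ Subgroup.center X := hc (by simp [MonoidHom.mem_ker, show f b' = f b from hb])
    show ⁅a', b'⁆ = ⁅a, b⁆
    have ea : a' = a * (a⁻¹ * a') := by group
    have eb : b' = b * (b⁻¹ * b') := by group
    rw [ea, eb, commutatorElement_def, commutatorElement_def]
    set z := a⁻¹ * a'
    set z' := b⁻¹ * b'
    calc a * z * (b * z') * (a * z)⁻¹ * (b * z')⁻¹
        = a * (z * (b * z')) * z⁻¹ * a⁻¹ * (z'⁻¹ * b⁻¹) := by group
      _ = a * ((b * z') * z) * z⁻¹ * a⁻¹ * (z'⁻¹ * b⁻¹) := by rw [← Subgroup.mem_center_iff.1 hz (b * z')]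
      _ = a * b * (z' * a⁻¹) * z'⁻¹ * b⁻¹ := by group
      _ = a * b * (a⁻¹ * z') * z'⁻¹ * b⁻¹ := by rw [← Subgroup.mem_center_iff.1 hz' a⁻¹]
      _ = a * b * a⁻¹ * b⁻¹ := by group
  infer_instance

end Generic

variable {F : Type u} [Field F] {V : Type u} [AddCommGroup V] [Module F V] (Q : QuadraticForm F V)

local notation "Cl" => CliffordAlgebra Q
local notation "ι₀" => CliffordAlgebra.ι Q
local notation "pl" => QuadraticMap.polar Q

/-- Units of the Clifford algebra acting on vectors as isometries up to a scalar. -/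
def liftGroup : Subgroup ((CliffordAlgebra Q)ˣ × qAut Q × Fˣ) where
  carrier := {t | ∀ v : V, (t.1 : Cl) * ι₀ v = (t.2.2 : F) • (ι₀ (t.2.1.1 v) * (t.1 : Cl))}
  one_mem' := fun v => by simp
  mul_mem' := fun {a b} ha hb v => by
    show ((a.1 : Cl) * (b.1 : Cl)) * ι₀ v =
      ((a.2.2 : F) * (b.2.2 : F)) • (ι₀ (a.2.1.1 (b.2.1.1 v)) * ((a.1 : Cl) * (b.1 : Cl)))
    rw [mul_assoc, hb v, mul_smul_comm, ← mul_assoc, ha, smul_mul_assoc, smul_smul, mul_assoc,
      mul_comm (b.2.2 : F)]
  inv_mem' := fun {a} ha v => by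
    show (↑(a.1⁻¹) : Cl) * ι₀ v = ((a.2.2⁻¹ : Fˣ) : F) • (ι₀ ((a.2.1⁻¹).1 v) * ↑(a.1⁻¹))
    set w := (a.2.1⁻¹).1 v
    have hw : a.2.1.1 w = v := by
      show (a.2.1 * a.2.1⁻¹).1 v = v
      rw [mul_inv_cancel]; rfl
    have h1 := congrArg (fun x => (↑(a.1⁻¹) : Cl) * x * (↑(a.1⁻¹) : Cl)) (ha w)
    simp only [mul_smul_comm, smul_mul_assoc, ← mul_assoc, Units.inv_mul, one_mul] at h1
    rw [hw, mul_assoc (↑(a.1⁻¹) * ι₀ v), Units.mul_inv, mul_one] at h1
    rw [h1, smul_smul, ← Units.val_mul, inv_mul_cancel, Units.val_one, one_smul]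

/-- The isometry of a lift. -/
def toAut : liftGroup Q →* qAut Q :=
  ((MonoidHom.fst (qAut Q) Fˣ).comp (MonoidHom.snd (CliffordAlgebra Q)ˣ (qAut Q × Fˣ))).comp
    (liftGroup Q).subtype

/-- The scalar of a lift. -/
def toScal : liftGroup Q →* Fˣ :=
  ((MonoidHom.snd (qAut Q) Fˣ).comp (MonoidHom.snd (CliffordAlgebra Q)ˣ (qAut Q × Fˣ))).comp
    (liftGroup Q).subtype

/-- The algebra element of a lift. -/
def toCl : liftGroup Q →* (CliffordAlgebra Q)ˣ :=
  (MonoidHom.fst (CliffordAlgebra Q)ˣ (qAut Q × Fˣ)).comp (liftGroup Q).subtype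

variable {Q}

theorem liftGroup_ext {a b : liftGroup Q} (h1 : (toCl Q a : Cl) = toCl Q b) (h2 : toAut Q a = toAut Q b)
    (h3 : toScal Q a = toScal Q b) : a = b :=
  Subtype.ext (Prod.ext (Units.ext h1) (Prod.ext h2 h3))

theorem spec (a : liftGroup Q) (v : V) :
    (toCl Q a : Cl) * ι₀ v = (toScal Q a : F) • (ι₀ ((toAut Q a).1 v) * (toCl Q a : Cl)) := a.2 v

/-- A lift over the identity without scalar is central. -/
theorem mem_center_of_trivial {a : liftGroup Q} (h1 : toAut Q a = 1) (h2 : toScal Q a = 1) :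
    a ∈ Subgroup.center (liftGroup Q) := by
  have hv : ∀ v, (toCl Q a : Cl) * ι₀ v = ι₀ v * (toCl Q a : Cl) := fun v => by
    have := spec a v
    rw [h1, h2] at this
    simpa using this
  have hall : ∀ x : Cl, (toCl Q a : Cl) * x = x * (toCl Q a : Cl) := by
    intro x
    induction x using CliffordAlgebra.induction with
    | algebraMap r => exact (Algebra.commutes r _).symm
    | ι v => exact hv v
    | mul x y hx hy => rw [← mul_assoc, hx, mul_assoc, hy, mul_assoc]
    | add x y hx hy => rw [mul_add, hx, hy, add_mul]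
  refine Subgroup.mem_center_iff.2 fun b => liftGroup_ext ?_ ?_ ?_
  · rw [map_mul, map_mul, Units.val_mul, Units.val_mul]; exact (hall _).symm
  · rw [map_mul, map_mul, h1, mul_one, one_mul]
  · rw [map_mul, map_mul, h2, mul_one, one_mul]

/-- The unit of an anisotropic vector. -/
noncomputable def vecUnit {v : V} (hv : Q v ≠ 0) : (CliffordAlgebra Q)ˣ where
  val := ι₀ v
  inv := (Q v)⁻¹ • ι₀ v
  val_inv := by
    rw [mul_smul_comm, CliffordAlgebra.ι_sq_scalar, Algebra.algebraMap_eq_smul_one, smul_smul,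
      inv_mul_cancel₀ hv, one_smul]
  inv_val := by
    rw [smul_mul_assoc, CliffordAlgebra.ι_sq_scalar, Algebra.algebraMap_eq_smul_one, smul_smul,
      inv_mul_cancel₀ hv, one_smul]

@[simp] theorem vecUnit_val {v : V} (hv : Q v ≠ 0) : (vecUnit hv : Cl) = ι₀ v := rfl

/-- The lift of a reflection. -/
noncomputable def reflLift {v : V} (hv : Q v ≠ 0) : liftGroup Q :=
  ⟨(vecUnit hv, qRefl Q hv, -1), fun x => by
    show ι₀ v * ι₀ x = ((-1 : Fˣ) : F) • (ι₀ ((qRefl Q hv).1 x) * ι₀ v)
    rw [qRefl_apply, map_sub, map_smul, sub_mul, smul_mul_assoc, CliffordAlgebra.ι_sq_scalar,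
      Algebra.algebraMap_eq_smul_one, smul_smul, mul_right_comm, inv_mul_cancel₀ hv, one_mul,
      Units.val_neg, Units.val_one, neg_smul, one_smul, neg_sub, ← Algebra.algebraMap_eq_smul_one,
      QuadraticMap.polar_comm Q x v, ← CliffordAlgebra.ι_mul_ι_add_swap, add_sub_cancel_right]⟩

@[simp] theorem toAut_reflLift {v : V} (hv : Q v ≠ 0) : toAut Q (reflLift hv) = qRefl Q hv := rfl
@[simp] theorem toScal_reflLift {v : V} (hv : Q v ≠ 0) : toScal Q (reflLift hv) = -1 := rfl
@[simp] theorem toCl_reflLift {v : V} (hv : Q v ≠ 0) : (toCl Q (reflLift hv) : Cl) = ι₀ v := rfl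

variable (Q) in
/-- The extension. -/
abbrev Spin : Type u := ↥(commutator (commutator (liftGroup Q)))

theorem toScal_commutator {a : liftGroup Q} (ha : a ∈ commutator (liftGroup Q)) : toScal Q a = 1 :=
  Abelianization.commutator_subset_ker (toScal Q) ha

variable [Fintype F] [FiniteDimensional F V]

theorem toAut_surjective (hQ : PolarNondeg Q) (hn : 5 ≤ Module.finrank F V) :
    Function.Surjective (toAut Q) := by
  intro g
  have hle : reflGroup Q ≤ (toAut Q).range := (Subgroup.closure_le _).2 (by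
    rintro _ ⟨v, hv, rfl⟩
    exact ⟨reflLift hv, rfl⟩)
  refine hle ?_
  rw [reflGroup_eq_top Q hQ (Or.inr (by omega))]
  trivial

theorem map_commutator_liftGroup (hQ : PolarNondeg Q) (hn : 5 ≤ Module.finrank F V) :
    (commutator (liftGroup Q)).map (toAut Q) = eichGroup Q := by
  rw [eichGroup_eq_commutator Q hQ hn, commutator_def, Subgroup.map_commutator,
    Subgroup.map_top_of_surjective _ (toAut_surjective hQ hn), ← commutator_def]

/-- The commutator subgroup of the lifts, over the Eichler group. -/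
noncomputable def toEich (hQ : PolarNondeg Q) (hn : 5 ≤ Module.finrank F V) :
    commutator (liftGroup Q) →* eichGroup Q :=
  ((toAut Q).comp (commutator (liftGroup Q)).subtype).codRestrict _ fun a =>
    (map_commutator_liftGroup hQ hn).le (Subgroup.mem_map_of_mem (toAut Q) a.2)

theorem toEich_surjective (hQ : PolarNondeg Q) (hn : 5 ≤ Module.finrank F V) :
    Function.Surjective (toEich hQ hn) := by
  rintro ⟨g, hg⟩
  obtain ⟨a, ha, e⟩ := (map_commutator_liftGroup hQ hn).ge hg
  exact ⟨⟨a, ha⟩, Subtype.ext e⟩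

theorem ker_toEich (hQ : PolarNondeg Q) (hn : 5 ≤ Module.finrank F V) :
    (toEich hQ hn).ker ≤ Subgroup.center (commutator (liftGroup Q)) := by
  intro a ha
  have h := mem_center_of_trivial (a := (a : liftGroup Q)) (congrArg Subtype.val ha)
    (toScal_commutator a.2)
  exact Subgroup.mem_center_iff.2 fun b => Subtype.ext (Subgroup.mem_center_iff.1 h b)

/-- Its projection. -/
noncomputable def spinProj (hQ : PolarNondeg Q) (hn : 5 ≤ Module.finrank F V) : Spin Q →* eichGroup Q :=
  (toEich hQ hn).comp (commutator (commutator (liftGroup Q))).subtype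

theorem spin_finite (hQ : PolarNondeg Q) (hn : 5 ≤ Module.finrank F V) : Finite (Spin Q) := by
  haveI : Finite V := Module.finite_of_finite F
  haveI := finite_qAut Q
  exact finite_commutator_of_central (toEich hQ hn) (ker_toEich hQ hn)

theorem spinProj_stem (hQ : PolarNondeg Q) (hn : 5 ≤ Module.finrank F V) :
    Cfsg.IsStemExtension (spinProj hQ hn) := by
  have hE : commutator (eichGroup Q) = ⊤ := by
    refine Subgroup.map_injective (f := (eichGroup Q).subtype) Subtype.val_injective ?_
    rw [commutator_def, Subgroup.map_commutator, ← MonoidHom.range_eq_map, Subgroup.range_subtype]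
    exact eichGroup_perfect Q hQ hn
  have hp := perfect_commutator _ hE (toEich_surjective hQ hn) (ker_toEich hQ hn)
  refine ⟨fun g => ?_, fun a ha => ?_, fun a _ => hp ▸ Subgroup.mem_top a⟩
  · have hmap : (commutator (commutator (liftGroup Q))).map (toEich hQ hn) = ⊤ := by
      rw [commutator_def (G := ↥(commutator (liftGroup Q))), Subgroup.map_commutator,
        Subgroup.map_top_of_surjective _ (toEich_surjective hQ hn)]
      exact hE
    obtain ⟨a, ha, e⟩ := (hmap ▸ Subgroup.mem_top g :
      g ∈ (commutator (commutator (liftGroup Q))).map (toEich hQ hn))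
    exact ⟨⟨a, ha⟩, e⟩
  · exact Subgroup.mem_center_iff.2 fun b =>
      Subtype.ext (Subgroup.mem_center_iff.1 (ker_toEich hQ hn (show a.1 ∈ _ from ha)) b)

end CfsgLib.Known.OrthSpin
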