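import Cfsg.Agent.Lib.Known.OrthSpin.Basic

/-!
# Lifts of products of two reflections and of `-1`
-/

set_option autoImplicit false
set_option linter.unusedSectionVars false

namespace CfsgLib.Known.OrthSpin

open CfsgLib.Classical
open scoped commutatorElement

universe u

variable {F : Type u} [Field F] {V : Type u} [AddCommGroup V] [Module F V] {Q : QuadraticForm F V}

local notation "Cl" => CliffordAlgebra Q
local notation "ι₀" => CliffordAlgebra.ι Q
local notation "pl" => QuadraticMap.polar Q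

/-- The algebra element of an element of the extension. -/
def cl (c : Spin Q) : Cl := (toCl Q c.1.1 : Cl)

/-- The isometry of an element of the extension. -/
def aut (c : Spin Q) : qAut Q := toAut Q c.1.1

theorem cl_mul (c d : Spin Q) : cl (c * d) = cl c * cl d := by simp [cl]
theorem cl_one : cl (1 : Spin Q) = 1 := by simp [cl]
theorem aut_mul (c d : Spin Q) : aut (c * d) = aut c * aut d := by simp [aut]
theorem aut_one : aut (1 : Spin Q) = 1 := by simp [aut]

theorem spin_ext {c d : Spin Q} (h1 : cl c = cl d) (h2 : aut c = aut d) : c = d :=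
  Subtype.ext (Subtype.ext (liftGroup_ext h1 h2
    ((toScal_commutator c.1.2).trans (toScal_commutator d.1.2).symm)))

theorem anticomm {e f : V} (h : pl e f = 0) : ι₀ e * ι₀ f = -(ι₀ f * ι₀ e) := by
  rw [eq_neg_iff_add_eq_zero, CliffordAlgebra.ι_mul_ι_add_swap, h, map_zero]

theorem anticomm_mul {e f : V} (h : pl e f = 0) (x : Cl) :
    ι₀ e * (ι₀ f * x) = -(ι₀ f * (ι₀ e * x)) := by
  rw [← mul_assoc, anticomm h, neg_mul, mul_assoc]

theorem qRefl_congr {v w : V} (hv : Q v ≠ 0) (hw : Q w ≠ 0) (h : v = w) : qRefl Q hv = qRefl Q hw := by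
  subst h; rfl

theorem qRefl_comm {v w : V} (hv : Q v ≠ 0) (hw : Q w ≠ 0) (h : pl v w = 0) :
    qRefl Q hv * qRefl Q hw = qRefl Q hw * qRefl Q hv := by
  have e : (qRefl Q hv).1 w = w := qRefl_fix Q hv (by rw [QuadraticMap.polar_comm]; exact h)
  rw [← mul_inv_eq_iff_eq_mul, qRefl_conj Q _ hw (e.symm ▸ hw)]
  exact qRefl_congr _ _ e

/-- An orthogonal pair of vectors of equal value, with a third one. -/
structure Trio (Q : QuadraticForm F V) (e f g : V) (a : F) : Prop where
  ne : a ≠ 0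
  qe : Q e = a
  qf : Q f = a
  qg : Q g = a
  ef : QuadraticMap.polar Q e f = 0
  eg : QuadraticMap.polar Q e g = 0
  fg : QuadraticMap.polar Q f g = 0

theorem Trio.rot {e f g : V} {a : F} (h : Trio Q e f g a) : Trio Q f g e a :=
  ⟨h.ne, h.qf, h.qg, h.qe, h.fg, by rw [QuadraticMap.polar_comm]; exact h.ef,
    by rw [QuadraticMap.polar_comm]; exact h.eg⟩

variable [Fintype F] [FiniteDimensional F V] (hQ : PolarNondeg Q) (hn : 5 ≤ Module.finrank F V)

include hQ hn

/-- A commutator lifting a product of two reflections of equal value. -/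
theorem exists_comm_lift {u v : V} (hu : Q u ≠ 0) (hv : Q v ≠ 0) (h : Q u = Q v) :
    ∃ d : commutator (liftGroup Q), ∃ z ∈ Subgroup.center (liftGroup Q),
      (d : liftGroup Q) = reflLift hu * reflLift hv * z := by
  obtain ⟨g, hg⟩ := exists_conj_refl Q hQ hu hv h
  obtain ⟨x, hx⟩ := toAut_surjective hQ hn g
  have hmem : ⁅reflLift hu, x⁆ ∈ commutator (liftGroup Q) :=
    Subgroup.commutator_mem_commutator trivial trivial
  refine ⟨⟨_, hmem⟩, (reflLift hu * reflLift hv)⁻¹ * ⁅reflLift hu, x⁆, mem_center_of_trivial ?_ ?_,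
    by group⟩
  · rw [map_mul, map_inv, map_mul, map_commutatorElement, hx, toAut_reflLift, toAut_reflLift,
      commutatorElement_def, qRefl_inv, ← hg]
    group
  · rw [map_mul, map_inv, map_mul, toScal_commutator hmem, toScal_reflLift, toScal_reflLift]
    simp

theorem comm_mem_spin {x y : liftGroup Q} (d d' : commutator (liftGroup Q))
    {z z' : liftGroup Q} (hz : z ∈ Subgroup.center (liftGroup Q)) (hz' : z' ∈ Subgroup.center (liftGroup Q))
    (e : (d : liftGroup Q) = x * z) (e' : (d' : liftGroup Q) = y * z') :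
    ∃ c : Spin Q, c.1.1 = ⁅x, y⁆ := by
  refine ⟨⟨⁅d, d'⁆, Subgroup.commutator_mem_commutator trivial trivial⟩, ?_⟩
  show ((⁅d, d'⁆ : commutator (liftGroup Q)) : liftGroup Q) = _
  rw [← Subgroup.coe_subtype, map_commutatorElement]
  simp only [Subgroup.coe_subtype, e, e', commutatorElement_def]
  calc x * z * (y * z') * (x * z)⁻¹ * (y * z')⁻¹
      = x * (z * (y * z')) * z⁻¹ * x⁻¹ * (z'⁻¹ * y⁻¹) := by group
    _ = x * ((y * z') * z) * z⁻¹ * x⁻¹ * (z'⁻¹ * y⁻¹) := by rw [← Subgroup.mem_center_iff.1 hz (y * z')]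
    _ = x * y * (z' * x⁻¹) * z'⁻¹ * y⁻¹ := by group
    _ = x * y * (x⁻¹ * z') * z'⁻¹ * y⁻¹ := by rw [← Subgroup.mem_center_iff.1 hz' x⁻¹]
    _ = x * y * x⁻¹ * y⁻¹ := by group

variable (h2 : (2 : F) ≠ 0)

include h2

/-- The lift of the product of the two reflections of a trio. -/
theorem exists_pairElt {e f g : V} {a : F} (h : Trio Q e f g a) (he : Q e ≠ 0) (hf : Q f ≠ 0) :
    ∃ c : Spin Q, cl c = a⁻¹ • (ι₀ e * ι₀ f) ∧ aut c = qRefl Q he * qRefl Q hf := by
  have hg : Q g ≠ 0 := h.qg ▸ h.ne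
  have h2a : (2 : F) * a ≠ 0 := mul_ne_zero h2 h.ne
  have q1 : Q (e - f) = 2 * a := by
    rw [sub_eq_add_neg, quad_add, QuadraticMap.map_neg, QuadraticMap.polar_neg_right, h.qe, h.qf, h.ef]
    ring
  have q2 : Q (f - g) = 2 * a := by
    rw [sub_eq_add_neg, quad_add, QuadraticMap.map_neg, QuadraticMap.polar_neg_right, h.qf, h.qg, h.fg]
    ring
  have n1 : Q (e - f) ≠ 0 := q1 ▸ h2a
  have n2 : Q (f - g) ≠ 0 := q2 ▸ h2a
  obtain ⟨d, z, hz, ed⟩ := exists_comm_lift hQ hn hf hg (h.qf.trans h.qg.symm)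
  obtain ⟨d', z', hz', ed'⟩ := exists_comm_lift hQ hn n1 n2 (q1.trans q2.symm)
  set x := reflLift hf * reflLift hg
  set y := reflLift n1 * reflLift n2
  obtain ⟨c, hc⟩ := comm_mem_spin hQ hn d d' hz hz' ed ed'
  -- the action of `y`
  have sdef : ∀ v, (toAut Q y).1 v = (qRefl Q n1).1 ((qRefl Q n2).1 v) := fun v => rfl
  have sf : (toAut Q y).1 f = g := by
    rw [sdef, qRefl_apply Q n2, q2]
    have : pl f (f - g) = 2 * a := by
      rw [QuadraticMap.polar_sub_right, h.fg, quad_polar_self, h.qf, sub_zero]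
    rw [this, inv_mul_cancel₀ h2a, one_smul, sub_sub_cancel]
    refine qRefl_fix Q n1 ?_
    rw [QuadraticMap.polar_sub_right, QuadraticMap.polar_comm Q g e, QuadraticMap.polar_comm Q g f, h.eg,
      h.fg, sub_zero]
  have sg : (toAut Q y).1 g = e := by
    rw [sdef, qRefl_apply Q n2, q2]
    have : pl g (f - g) = -(2 * a) := by
      rw [QuadraticMap.polar_sub_right, QuadraticMap.polar_comm Q g f, h.fg, quad_polar_self, h.qg, zero_sub]
    rw [this, mul_neg, inv_mul_cancel₀ h2a, neg_one_smul, sub_neg_eq_add, add_sub_cancel, qRefl_apply Q n1, q1]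
    have : pl f (e - f) = -(2 * a) := by
      rw [QuadraticMap.polar_sub_right, QuadraticMap.polar_comm Q f e, h.ef, quad_polar_self, h.qf, zero_sub]
    rw [this, mul_neg, inv_mul_cancel₀ h2a, neg_one_smul, sub_neg_eq_add, add_sub_cancel]
  have hys : toScal Q y = 1 := by simp [y]
  have hyv : ∀ v, (toCl Q y : Cl) * ι₀ v = ι₀ ((toAut Q y).1 v) * (toCl Q y : Cl) := fun v => by
    rw [spec, hys, Units.val_one, one_smul]
  refine ⟨c, ?_, ?_⟩
  · have hconj : (toCl Q (y * x * y⁻¹) : Cl) = ι₀ g * ι₀ e := by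
      simp only [map_mul, map_inv, Units.val_mul, x, toCl_reflLift]
      rw [← mul_assoc, hyv, sf, mul_assoc (ι₀ g), hyv, sg, ← mul_assoc, Units.mul_inv_cancel_right]
    have hprod : (toCl Q ⁅x, y⁆ : Cl) * (ι₀ g * ι₀ e) = ι₀ f * ι₀ g := by
      rw [← hconj, ← Units.val_mul, ← map_mul, show ⁅x, y⁆ * (y * x * y⁻¹) = x by
        rw [commutatorElement_def]; group]
      simp [x]
    have hrhs : (a⁻¹ • (ι₀ e * ι₀ f)) * (ι₀ g * ι₀ e) = ι₀ f * ι₀ g := by
      have hge : pl g e = 0 := by rw [QuadraticMap.polar_comm]; exact h.eg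
      have hfe : pl f e = 0 := by rw [QuadraticMap.polar_comm]; exact h.ef
      rw [smul_mul_assoc, mul_assoc, anticomm hge, mul_neg, mul_neg, anticomm_mul hfe, mul_neg, neg_neg,
        ← mul_assoc (ι₀ e), CliffordAlgebra.ι_sq_scalar, h.qe, ← Algebra.smul_def, smul_smul,
        inv_mul_cancel₀ h.ne, one_smul]
    have hu : IsUnit (ι₀ g * ι₀ e) := ⟨vecUnit hg * vecUnit he, rfl⟩
    rw [cl, hc]
    exact hu.mul_left_injective (hprod.trans hrhs.symm)
  · rw [aut, hc, map_commutatorElement, commutatorElement_def]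
    have e1 : toAut Q y * toAut Q x * (toAut Q y)⁻¹ = qRefl Q hg * qRefl Q he := by
      have c1 : toAut Q y * qRefl Q hf * (toAut Q y)⁻¹ = qRefl Q hg :=
        (qRefl_conj Q _ hf (sf.symm ▸ hg)).trans (qRefl_congr _ _ sf)
      have c2 : toAut Q y * qRefl Q hg * (toAut Q y)⁻¹ = qRefl Q he :=
        (qRefl_conj Q _ hg (sg.symm ▸ he)).trans (qRefl_congr _ _ sg)
      rw [show toAut Q x = qRefl Q hf * qRefl Q hg from rfl,
        show toAut Q y * (qRefl Q hf * qRefl Q hg) * (toAut Q y)⁻¹ =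
          (toAut Q y * qRefl Q hf * (toAut Q y)⁻¹) * (toAut Q y * qRefl Q hg * (toAut Q y)⁻¹) by group,
        c1, c2]
    rw [show toAut Q x * toAut Q y * (toAut Q x)⁻¹ * (toAut Q y)⁻¹ =
        toAut Q x * (toAut Q y * toAut Q x * (toAut Q y)⁻¹)⁻¹ by group, e1,
      show toAut Q x = qRefl Q hf * qRefl Q hg from rfl, mul_inv_rev, qRefl_inv, qRefl_inv,
      qRefl_comm he hg h.eg, ← mul_assoc, mul_assoc (qRefl Q hf), qRefl_mul_self, mul_one,
      ← qRefl_comm he hf h.ef]

/-- The kernel element `-1`. -/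
theorem exists_neg_one {e f g : V} {a : F} (h : Trio Q e f g a) :
    ∃ m : Spin Q, cl m = -1 ∧ aut m = 1 := by
  have he : Q e ≠ 0 := h.qe ▸ h.ne
  have hf : Q f ≠ 0 := h.qf ▸ h.ne
  have hg : Q g ≠ 0 := h.qg ▸ h.ne
  obtain ⟨c, hc, hca⟩ := exists_pairElt hQ hn h2 h he hf
  obtain ⟨c', hc', hca'⟩ := exists_pairElt hQ hn h2 h.rot hf hg
  have hfe : pl f e = 0 := by rw [QuadraticMap.polar_comm]; exact h.ef
  have hge : pl g e = 0 := by rw [QuadraticMap.polar_comm]; exact h.eg
  have hgf : pl g f = 0 := by rw [QuadraticMap.polar_comm]; exact h.fg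
  have hanti : cl c * cl c' = -(cl c' * cl c) := by
    simp only [hc, hc', smul_mul_assoc, mul_smul_comm, smul_smul, ← smul_neg]
    congr 1
    simp only [mul_assoc]
    rw [anticomm_mul hge]
    simp only [mul_neg, neg_neg]
    rw [anticomm_mul hfe, anticomm hgf]
    simp only [mul_neg, neg_neg]
  refine ⟨⁅c, c'⁆, ?_, ?_⟩
  · have hu : IsUnit (cl c' * cl c) := ⟨toCl Q c'.1.1 * toCl Q c.1.1, rfl⟩
    refine hu.mul_left_injective ?_
    show cl ⁅c, c'⁆ * (cl c' * cl c) = -1 * (cl c' * cl c)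
    rw [← cl_mul, ← cl_mul, show ⁅c, c'⁆ * (c' * c) = c * c' by rw [commutatorElement_def]; group,
      cl_mul, hanti, cl_mul, neg_one_mul]
  · have hcom : aut c * aut c' = aut c' * aut c := by
      rw [hca, hca']
      exact ((show Commute (qRefl Q he) (qRefl Q hf) from qRefl_comm he hf h.ef).mul_right
        (show Commute (qRefl Q he) (qRefl Q hg) from qRefl_comm he hg h.eg)).mul_left
        ((Commute.refl (qRefl Q hf)).mul_right
          (show Commute (qRefl Q hf) (qRefl Q hg) from qRefl_comm hf hg h.fg))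
    have key : aut ⁅c, c'⁆ * (aut c' * aut c) = 1 * (aut c' * aut c) := by
      rw [← aut_mul, ← aut_mul, show ⁅c, c'⁆ * (c' * c) = c * c' by rw [commutatorElement_def]; group,
        aut_mul, hcom, aut_mul, one_mul]
    exact mul_right_cancel key

theorem neg_one_ne_one : (-1 : Cl) ≠ 1 := by
  haveI : Invertible (2 : F) := invertibleOfNonzero h2
  intro h
  have h1 : algebraMap F Cl (-1) = algebraMap F Cl 1 := by rw [map_neg, map_one]; exact h
  exact h2 (by linear_combination -((algebraMap F Cl).injective h1))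

/-- The lift of `-1` from a spanning family of pairs. -/
theorem exists_lift_neg {l : ℕ} (e f g : Fin l → V) (a : Fin l → F) (h : ∀ i, Trio Q (e i) (f i) (g i) (a i))
    (horth : ∀ i j, i ≠ j → pl (e i) (e j) = 0 ∧ pl (e i) (f j) = 0 ∧ pl (f i) (f j) = 0)
    (hspan : Submodule.span F (Set.range e ∪ Set.range f) = ⊤) {m : Spin Q} (hm : cl m = -1)
    (hma : aut m = 1) :
    ∃ z : Spin Q, z * z = m ^ l ∧ ∀ v, (aut z).1 v = -v := by
  have hne : ∀ i, Q (e i) ≠ 0 := fun i => (h i).qe ▸ (h i).ne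
  have hnf : ∀ i, Q (f i) ≠ 0 := fun i => (h i).qf ▸ (h i).ne
  choose c hc hca using fun i => exists_pairElt hQ hn h2 (h i) (hne i) (hnf i)
  have hsq : ∀ i, c i * c i = m := fun i => by
    refine spin_ext ?_ ?_
    · rw [cl_mul, hc, hm, smul_mul_assoc, mul_smul_comm, smul_smul, mul_assoc,
        anticomm_mul (show pl (f i) (e i) = 0 by rw [QuadraticMap.polar_comm]; exact (h i).ef), mul_neg, CliffordAlgebra.ι_sq_scalar,
        (h i).qf, ← mul_assoc, CliffordAlgebra.ι_sq_scalar, (h i).qe, ← map_mul, smul_neg,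
        Algebra.algebraMap_eq_smul_one, smul_smul,
        show (a i)⁻¹ * (a i)⁻¹ * (a i * a i) = 1 by field_simp [(h i).ne], one_smul]
    · rw [aut_mul, hca, hma, mul_assoc, ← mul_assoc (qRefl Q (hnf i)), ← qRefl_comm (hne i) (hnf i) (h i).ef,
        mul_assoc (qRefl Q (hne i)), qRefl_mul_self, mul_one, qRefl_mul_self]
  have hcomm : ∀ i j, Commute (c i) (c j) := fun i j => by
    rcases eq_or_ne i j with rfl | hij
    · exact Commute.refl _
    obtain ⟨o1, o2, o3⟩ := horth i j hij
    have o4 : pl (f i) (e j) = 0 := by rw [QuadraticMap.polar_comm]; exact (horth j i hij.symm).2.1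
    refine spin_ext ?_ ?_
    · rw [cl_mul, cl_mul, hc, hc, smul_mul_assoc, mul_smul_comm, smul_mul_assoc, mul_smul_comm, smul_comm]
      congr 2
      simp only [mul_assoc]
      rw [anticomm_mul o4, anticomm o3]
      simp only [mul_neg, neg_neg]
      rw [anticomm_mul o1, anticomm_mul o2]
      simp only [mul_neg, neg_neg]
    · rw [aut_mul, aut_mul, hca, hca]
      exact ((show Commute (qRefl Q (hne i)) (qRefl Q (hne j)) from qRefl_comm _ _ o1).mul_right
        (show Commute (qRefl Q (hne i)) (qRefl Q (hnf j)) from qRefl_comm _ _ o2)).mul_left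
        ((show Commute (qRefl Q (hnf i)) (qRefl Q (hne j)) from qRefl_comm _ _ o4).mul_right
          (show Commute (qRefl Q (hnf i)) (qRefl Q (hnf j)) from qRefl_comm _ _ o3))
  have key : ∀ k ≤ l, ∃ W : Spin Q, W * W = m ^ k ∧ (∀ j, Commute W (c j)) ∧ ∀ i : Fin l,
      (aut W).1 (e i) = (if i.val < k then -(e i) else e i) ∧
      (aut W).1 (f i) = (if i.val < k then -(f i) else f i) := by
    intro k
    induction k with
    | zero => exact fun _ => ⟨1, by simp, fun j => Commute.one_left _, fun i => by simp [aut_one]⟩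
    | succ k ih =>
      intro hk
      obtain ⟨W, hW, hWc, hWv⟩ := ih (by omega)
      set j : Fin l := ⟨k, by omega⟩
      refine ⟨W * c j, ?_, fun i => (hWc i).mul_left (hcomm j i), fun i => ?_⟩
      · rw [(hWc j).symm.mul_mul_mul_comm, hW, hsq, pow_succ]
      · have hve : ∀ v, (aut (W * c j)).1 v = (aut W).1 ((qRefl Q (hne j)).1 ((qRefl Q (hnf j)).1 v)) :=
          fun v => by rw [aut_mul, hca]; rfl
        rcases eq_or_ne i j with rfl | hij
        · have r1 : (qRefl Q (hnf j)).1 (e j) = e j := qRefl_fix Q _ (h j).ef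
          have r2 : (qRefl Q (hne j)).1 (f j) = f j := qRefl_fix Q _ (by rw [QuadraticMap.polar_comm]; exact (h j).ef)
          have r3 : (qRefl Q (hne j)).1 (e j) = -(e j) := by
            rw [qRefl_apply, quad_polar_self, ← mul_assoc, mul_comm _ (2 : F), mul_assoc,
              inv_mul_cancel₀ (hne j), mul_one, two_smul, sub_add_cancel_left]
          have r4 : (qRefl Q (hnf j)).1 (f j) = -(f j) := by
            rw [qRefl_apply, quad_polar_self, ← mul_assoc, mul_comm _ (2 : F), mul_assoc,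
              inv_mul_cancel₀ (hnf j), mul_one, two_smul, sub_add_cancel_left]
          obtain ⟨w1, w2⟩ := hWv j
          rw [if_neg (by simp [j])] at w1 w2
          rw [if_pos (by simp [j]), if_pos (by simp [j]), hve, hve, r1, r3, r4]
          simp only [map_neg, r2, w1, w2, and_self]
        · obtain ⟨o1, o2, o3⟩ := horth i j hij
          have o4 : pl (f i) (e j) = 0 := by rw [QuadraticMap.polar_comm]; exact (horth j i hij.symm).2.1
          have hlt : i.val < k + 1 ↔ i.val < k := by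
            have : i.val ≠ k := fun e => hij (Fin.ext e)
            omega
          simp only [hve, hlt]
          rw [qRefl_fix Q _ o2, qRefl_fix Q _ o1, qRefl_fix Q _ o3, qRefl_fix Q _ o4]
          exact hWv i
  obtain ⟨z, hz, -, hzv⟩ := key l le_rfl
  refine ⟨z, hz, fun v => ?_⟩
  have hlin : (aut z).1.toLinearMap = -LinearMap.id := by
    refine LinearMap.ext_on hspan ?_
    rintro _ (⟨i, rfl⟩ | ⟨i, rfl⟩)
    · simpa [i.isLt] using (hzv i).1
    · simpa [i.isLt] using (hzv i).2
  exact LinearMap.congr_fun hlin v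

end CfsgLib.Known.OrthSpin
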